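import Cfsg.Agent.H844.K5.Base
import Cfsg.Agent.Lib.MinNormal
import Cfsg.Agent.SmallSimple.EvenOrder
import Cfsg.Agent.S0205

/-!
# S4874, p = 2, T7 RED-B (helper16)

If `O_2(G) = O_{2'}(G) = 1` and `G` has no subgroup of index 2, `k(B₀) = 5` and `l(B₀) ≥ 2`, then `G` has a simple
non-abelian normal subgroup `S` with `C_G(S) = 1`.
-/

set_option autoImplicit false

namespace Cfsg.Agent.H16.K5

open Cfsg Subgroup Cfsg.Agent.H844.K5

universe u

variable {G : Type u} [Group G]

/-- The center of a simple nonabelian subgroup. -/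
theorem eq_one_of_cent {K : Subgroup G} [IsSimpleGroup K] (hna : ¬ IsMulCommutative K) {x : G} (hx : x ∈ K)
    (hc : ∀ k ∈ K, Commute k x) : x = 1 := by
  have h1 : center K = ⊥ := by
    rcases (inferInstance : (center K).Normal).eq_bot_or_eq_top with h | h
    · exact h
    · exact absurd ⟨⟨fun a b => (mem_center_iff.1 (by rw [h]; trivial : b ∈ center K) a)⟩⟩ hna
  have h2 : (⟨x, hx⟩ : K) ∈ center K := by
    rw [mem_center_iff]
    intro g
    exact Subtype.ext (hc g g.2)
  rw [h1, mem_bot] at h2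
  exact congrArg Subtype.val h2

theorem even_of_simple {K : Type*} [Group K] [Finite K] [IsSimpleGroup K] (hna : ¬ IsMulCommutative K) :
    2 ∣ Nat.card K := by
  by_contra h2
  have h3 : Group.IsSolvable K := S0205.result (Nat.not_even_iff_odd.1 fun h => h2 h.two_dvd)
  exact hna ⟨⟨fun a b => IsSimpleGroup.comm_iff_isSolvable.2 h3 a b⟩⟩

theorem not_nilp {K : Type*} [Group K] [Finite K] [IsSimpleGroup K] (hna : ¬ IsMulCommutative K) :
    ¬ HasNormalPComplement 2 K := by
  have : Fact (Nat.Prime 2) := ⟨Nat.prime_two⟩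
  rintro ⟨P, N, hN, hc⟩
  rcases hN.eq_bot_or_eq_top with h | h
  · subst h
    have h1 : (P : Subgroup K) = ⊤ := isComplement'_bot_left.1 hc
    have h2 : IsPGroup 2 K := by
      have h3 := P.isPGroup'
      rw [h1] at h3
      exact h3.of_equiv topEquiv
    have h3 : Group.IsNilpotent K := h2.isNilpotent
    exact hna ⟨⟨fun a b => IsSimpleGroup.comm_iff_isSolvable.2 inferInstance a b⟩⟩
  · subst h
    have h1 : (P : Subgroup K) = ⊥ := isComplement'_top_left.1 hc
    have h2 := P.card_eq_multiplicity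
    rw [h1, card_bot] at h2
    have h3 : (Nat.card K).factorization 2 ≠ 0 := by
      have := (Nat.prime_two.dvd_iff_one_le_factorization (Nat.card_pos (α := K)).ne').1 (even_of_simple hna)
      omega
    have h4 := Nat.one_lt_two_pow h3
    omega

variable [Finite G]

theorem wt_two {x : G} {K : Subgroup G} [IsSimpleGroup K] (hna : ¬ IsMulCommutative K)
    (hc : ∀ k ∈ K, Commute k x) : wt x = 2 := by
  apply wt_eq_two
  intro h
  have hle : K ≤ centralizer ({x} : Set G) := fun k hk => mem_centralizer_singleton_iff.2 (hc k hk)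
  exact not_nilp hna (Cfsg.Agent.H634.ZJ.hasNormalPComplement_of_injective (inclusion hle)
    (inclusion_injective hle) h)

theorem exists_inv {K : Subgroup G} [IsSimpleGroup K] (hna : ¬ IsMulCommutative K) :
    ∃ x ∈ K, orderOf x = 2 := by
  have : Fact (Nat.Prime 2) := ⟨Nat.prime_two⟩
  obtain ⟨x, hx⟩ := exists_prime_orderOf_dvd_card' 2 (even_of_simple hna)
  exact ⟨x, x.2, by rw [orderOf_coe, hx]⟩

omit [Finite G] in
theorem el_of_two {x : G} (h : orderOf x = 2) : El x := by
  refine ⟨⟨1, by rw [h, pow_one]⟩, ?_⟩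
  rintro rfl
  simp at h

theorem pair {M : Ideal AlgInt} (hM : IsPModular 2 M) (h : Five M G) {x y : G} (hx : orderOf x = 2)
    (hy : orderOf y = 2) (hxw : wt x = 2) (hyw : wt y = 2) (hxy : ¬ IsConj x y) : False := by
  classical
  have hne : x ≠ y := fun h => hxy (h ▸ IsConj.refl x)
  have h1 := h.sum_wt_le hM {x, y} (by
    intro z hz
    rw [Finset.mem_insert, Finset.mem_singleton] at hz
    rcases hz with rfl | rfl
    · exact el_of_two hx
    · exact el_of_two hy) (by
    intro z hz w hw hzw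
    rw [Finset.mem_insert, Finset.mem_singleton] at hz hw
    rcases hz with rfl | rfl <;> rcases hw with rfl | rfl
    · rfl
    · exact absurd hzw hxy
    · exact absurd hzw.symm hxy
    · rfl)
  rw [Finset.sum_pair hne, hxw, hyw] at h1
  omega

/-- A minimal normal subgroup of a group with `O_2 = O_{2'} = 1`. -/
theorem decomp (hcore : pPrimeCore 2 G = ⊥) (hO : pCore 2 G = ⊥) (N : Subgroup G) [hNn : N.Normal] (hN : N ≠ ⊥)
    (hmin : ∀ M : Subgroup G, M.Normal → M ≤ N → M = ⊥ ∨ M = N) :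
    ∃ (m : ℕ) (T : Fin m → Subgroup G), 0 < m ∧ (∀ i, T i ≤ N) ∧ (∀ i, IsSimpleGroup (T i)) ∧
      (∀ i, ¬ IsMulCommutative (T i)) ∧ (∀ i, N ≤ normalizer (T i : Set G)) ∧
      (∀ i j, ∃ g : G, T j = (T i).map (MulAut.conj g).toMonoidHom) ∧
      (∀ i j, i ≠ j → ∀ x ∈ T i, ∀ y ∈ T j, Commute x y) ∧
      Function.Injective T ∧ ⨆ i, T i = N := by
  obtain ⟨m, T, hm, hTN, hs, hnorm, hconj, hcomm, hinj, -, hsup⟩ :=
    Cfsg.Agent.Lib.MinNormal.exists_internal_decomposition N hN hmin
  refine ⟨m, T, hm, hTN, hs, ?_, hnorm, hconj, hcomm, hinj, hsup⟩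
  intro i hab
  -- `N` is abelian, hence an `r`-group
  have hab' : ∀ j, ∀ x ∈ T j, ∀ y ∈ T j, Commute x y := by
    intro j x hx y hy
    obtain ⟨g, hg⟩ := hconj i j
    rw [hg] at hx hy
    obtain ⟨x', hx', rfl⟩ := hx
    obtain ⟨y', hy', rfl⟩ := hy
    have h1 : x' * y' = y' * x' := congrArg Subtype.val (hab.is_comm.comm (⟨x', hx'⟩ : T i) ⟨y', hy'⟩)
    exact (show Commute x' y' from h1).map (MulAut.conj g).toMonoidHom
  have hcom : ∀ j, ∀ x ∈ T j, ∀ y ∈ N, Commute x y := by
    intro j x hx y hy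
    have h1 : N ≤ centralizer ({x} : Set G) := by
      rw [← hsup]
      refine iSup_le fun l z hz => mem_centralizer_singleton_iff.2 ?_
      by_cases hl : l = j
      · subst hl
        exact hab' l z hz x hx
      · exact hcomm l j hl z hz x hx
    exact (mem_centralizer_singleton_iff.1 (h1 hy)).symm
  have hcomN : ∀ x ∈ N, ∀ y ∈ N, Commute x y := by
    intro x hx y hy
    have h1 : N ≤ centralizer ({y} : Set G) := by
      conv_lhs => rw [← hsup]
      exact iSup_le fun l z hz => mem_centralizer_singleton_iff.2 (hcom l z hz y hy)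
    exact mem_centralizer_singleton_iff.1 (h1 hx)
  -- `N` has exponent `r`
  obtain ⟨r, hr, hrN⟩ := Nat.exists_prime_and_dvd (n := Nat.card N) fun h => hN (card_eq_one.1 h)
  have := Fact.mk hr
  let L : Subgroup G :=
    { carrier := {x | x ∈ N ∧ x ^ r = 1}
      one_mem' := ⟨N.one_mem, one_pow r⟩
      mul_mem' := fun {a b} ha hb => ⟨N.mul_mem ha.1 hb.1, by
        rw [(hcomN a ha.1 b hb.1).mul_pow, ha.2, hb.2, one_mul]⟩
      inv_mem' := fun {a} ha => ⟨N.inv_mem ha.1, by rw [inv_pow, ha.2, inv_one]⟩ }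
  have hL : L = N := by
    rcases hmin L ⟨fun x hx g => ⟨hNn.conj_mem _ hx.1 g, by rw [conj_pow, hx.2, mul_one, mul_inv_cancel]⟩⟩
      (fun x hx => hx.1) with h | h
    · exfalso
      obtain ⟨x, hx⟩ := exists_prime_orderOf_dvd_card' r hrN
      have h1 : (x : G) ∈ L := ⟨x.2, by
        have h2 := pow_orderOf_eq_one x
        rw [hx] at h2
        have h3 := congrArg Subtype.val h2
        simpa using h3⟩
      rw [h, mem_bot] at h1
      have h2 : x = 1 := Subtype.ext h1
      rw [h2, orderOf_one] at hx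
      exact hr.one_lt.ne hx
    · exact h
  have hNr : IsPGroup r N := fun x => ⟨1, by
    rw [pow_one]
    have h1 : (x : G) ∈ L := by rw [hL]; exact x.2
    exact Subtype.ext (by simpa using h1.2)⟩
  rcases eq_or_ne r 2 with rfl | h2
  · have h1 : N ≤ pCore 2 G := le_sSup ⟨hNn, hNr⟩
    rw [hO] at h1
    exact hN (eq_bot_iff.2 h1)
  · have h1 : N ≤ pPrimeCore 2 G := by
      refine le_sSup ⟨hNn, ?_⟩
      obtain ⟨a, ha⟩ := IsPGroup.iff_card.1 hNr
      rw [ha]
      exact Nat.Coprime.pow_left _ ((Nat.coprime_primes hr Nat.prime_two).2 h2)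
    rw [hcore] at h1
    exact hN (eq_bot_iff.2 h1)

omit [Finite G] in
/-- A simple nonabelian subgroup which is normalized by all the factors and conversely is one of the factors. -/
theorem eq_factor {m : ℕ} {T : Fin m → Subgroup G} {N : Subgroup G} (hTN : ∀ i, T i ≤ N)
    (hs : ∀ i, IsSimpleGroup (T i)) (hnorm : ∀ i, N ≤ normalizer (T i : Set G)) (hsup : ⨆ i, T i = N)
    {K : Subgroup G} (hK : IsSimpleGroup K) (hna : ¬ IsMulCommutative K) (hKN : K ≤ N)
    (hKn : N ≤ normalizer (K : Set G)) : ∃ i, K = T i := by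
  by_contra hcon
  push Not at hcon
  -- `K ∩ T i = 1`
  have h1 : ∀ i, K ⊓ T i = ⊥ := by
    intro i
    by_contra h
    have hA : ((T i).subgroupOf K).Normal := by
      refine ⟨fun x hx n => ?_⟩
      rw [mem_subgroupOf] at hx ⊢
      exact ((mem_normalizer_iff.1 (hnorm i (hKN n.2))) _).1 hx
    have hB : (K.subgroupOf (T i)).Normal := by
      refine ⟨fun x hx n => ?_⟩
      rw [mem_subgroupOf] at hx ⊢
      exact ((mem_normalizer_iff.1 (hKn (hTN i n.2))) _).1 hx
    have hA1 : (T i).subgroupOf K = ⊤ := by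
      rcases hA.eq_bot_or_eq_top with h2 | h2
      · exfalso
        apply h
        rw [subgroupOf_eq_bot, disjoint_iff] at h2
        rwa [inf_comm]
      · exact h2
    have hB1 : K.subgroupOf (T i) = ⊤ := by
      have := hs i
      rcases hB.eq_bot_or_eq_top with h2 | h2
      · exfalso
        apply h
        rwa [subgroupOf_eq_bot, disjoint_iff] at h2
      · exact h2
    exact hcon i (le_antisymm (subgroupOf_eq_top.1 hA1) (subgroupOf_eq_top.1 hB1))
  -- `K` commutes with all the factors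
  have h2 : ∀ i, ∀ k ∈ K, ∀ t ∈ T i, Commute t k := by
    intro i k hk t ht
    have h3 : k * t * k⁻¹ * t⁻¹ ∈ K ⊓ T i := by
      refine ⟨?_, ?_⟩
      · have h4 : k * t * k⁻¹ * t⁻¹ = k * (t * k⁻¹ * t⁻¹) := by group
        rw [h4]
        exact K.mul_mem hk (((mem_normalizer_iff.1 (hKn (hTN i ht))) _).1 (K.inv_mem hk))
      · exact (T i).mul_mem (((mem_normalizer_iff.1 (hnorm i (hKN hk))) _).1 ht) ((T i).inv_mem ht)
    rw [h1 i, mem_bot] at h3
    have h4 : k * t = (k * t * k⁻¹ * t⁻¹) * (t * k) := by group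
    rw [h3, one_mul] at h4
    exact h4.symm
  have h3 : ∀ k ∈ K, ∀ n ∈ N, Commute n k := by
    intro k hk n hn
    have h4 : N ≤ centralizer ({k} : Set G) := by
      conv_lhs => rw [← hsup]
      exact iSup_le fun i t ht => mem_centralizer_singleton_iff.2 (h2 i k hk t ht)
    exact mem_centralizer_singleton_iff.1 (h4 hn)
  exact hna ⟨⟨fun a b => Subtype.ext (h3 b b.2 a (hKN a.2))⟩⟩

variable {M : Ideal AlgInt}

theorem redB (hM : IsPModular 2 M) (h : Five M G) (h16 : 16 ∣ Nat.card G) (hcore : pPrimeCore 2 G = ⊥)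
    (hNI : ∀ H : Subgroup G, H.index ≠ 2) (hO : pCore 2 G = ⊥) :
    ∃ S : Subgroup G, S.Normal ∧ IsSimpleGroup S ∧ ¬ IsMulCommutative S ∧ centralizer (S : Set G) = ⊥ := by
  classical
  have hnt : Nontrivial G := by
    rw [← Finite.one_lt_card_iff_nontrivial]
    have := Nat.le_of_dvd Nat.card_pos h16
    omega
  -- minimal normal subgroups
  have exmin : ∀ C : Subgroup G, C.Normal → C ≠ ⊥ → ∃ N : Subgroup G, N.Normal ∧ N ≤ C ∧ N ≠ ⊥ ∧
      ∀ K : Subgroup G, K.Normal → K ≤ N → K = ⊥ ∨ K = N := by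
    intro C hC hC1
    obtain ⟨N, ⟨hN1, hN2, hN3⟩, hN4⟩ := Set.Finite.exists_minimal
      (s := {N : Subgroup G | N.Normal ∧ N ≤ C ∧ N ≠ ⊥}) (Set.toFinite _) ⟨C, hC, le_rfl, hC1⟩
    refine ⟨N, hN1, hN2, hN3, fun K hK hKN => ?_⟩
    by_cases hK1 : K = ⊥
    · exact Or.inl hK1
    · exact Or.inr (le_antisymm hKN (hN4 ⟨hK, hKN.trans hN2, hK1⟩ hKN))
  obtain ⟨N, hNn, -, hN1, hNmin⟩ := exmin ⊤ inferInstance top_ne_bot
  obtain ⟨m, T, hm, hTN, hs, hna, hnorm, hconj, hcomm, hinj, hsup⟩ := decomp hcore hO N hN1 hNmin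
  have := hs ⟨0, hm⟩
  obtain ⟨x, hx, hx2⟩ := exists_inv (hna ⟨0, hm⟩)
  -- the centralizer of `N` is trivial
  have hC : centralizer (N : Set G) = ⊥ := by
    by_contra hC
    obtain ⟨N', hNn', hNC, hN1', hNmin'⟩ := exmin (centralizer (N : Set G)) inferInstance hC
    obtain ⟨m', T', hm', hTN', hs', hna', -, -, -, -, -⟩ := decomp hcore hO N' hN1' hNmin'
    have := hs' ⟨0, hm'⟩
    obtain ⟨y, hy, hy2⟩ := exists_inv (hna' ⟨0, hm'⟩)
    have hcc : ∀ a ∈ N, ∀ b ∈ N', Commute a b := fun a ha b hb => mem_centralizer_iff.1 (hNC hb) a ha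
    refine pair hM h hx2 hy2 (wt_two (hna' ⟨0, hm'⟩) fun k hk => (hcc x (hTN _ hx) k (hTN' _ hk)).symm)
      (wt_two (hna ⟨0, hm⟩) fun k hk => hcc k (hTN _ hk) y (hTN' _ hy)) ?_
    intro hxy
    obtain ⟨g, hg⟩ := isConj_iff.1 hxy
    have h1 : y ∈ N := by
      rw [← hg]
      exact hNn.conj_mem _ (hTN _ hx) g
    have h2 : y = 1 := eq_one_of_cent (hna' ⟨0, hm'⟩) hy fun k hk => (hcc y h1 k (hTN' _ hk)).symm
    rw [h2] at hy2
    simp at hy2
  -- conjugates of the factors are factors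
  have hperm : ∀ g : G, ∀ i, ∃ j, (T i).map (MulAut.conj g).toMonoidHom = T j := by
    intro g i
    have hsi := hs i
    have e : T i ≃* (T i).map (MulAut.conj g).toMonoidHom :=
      (T i).equivMapOfInjective _ (MulAut.conj g).injective
    refine eq_factor hTN hs hnorm hsup (e.symm.isSimpleGroup) ?_ ?_ ?_
    · intro hc
      apply hna i
      refine ⟨⟨fun a b => e.injective ?_⟩⟩
      rw [map_mul, map_mul]
      exact hc.is_comm.comm _ _
    · rintro _ ⟨t, ht, rfl⟩
      exact hNn.conj_mem _ (hTN i ht) g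
    · intro n hn
      have h1 : g⁻¹ * n * g ∈ normalizer (T i : Set G) := by
        apply hnorm i
        have := hNn.conj_mem _ hn g⁻¹
        rwa [inv_inv] at this
      rw [mem_normalizer_iff]
      have key : ∀ t : G, t ∈ (T i).map (MulAut.conj g).toMonoidHom ↔ g⁻¹ * t * g ∈ T i := by
        intro t
        constructor
        · rintro ⟨s, hs', rfl⟩
          have h2 : g⁻¹ * (MulAut.conj g).toMonoidHom s * g = s := by
            show g⁻¹ * (g * s * g⁻¹) * g = s
            group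
          rwa [h2]
        · intro ht
          refine ⟨_, ht, ?_⟩
          show g * (g⁻¹ * t * g) * g⁻¹ = t
          group
      intro t
      rw [key, key, mem_normalizer_iff.1 h1]
      have h3 : g⁻¹ * n * g * (g⁻¹ * t * g) * (g⁻¹ * n * g)⁻¹ = g⁻¹ * (n * t * n⁻¹) * g := by group
      show g⁻¹ * n * g * (g⁻¹ * t * g) * (g⁻¹ * n * g)⁻¹ ∈ T i ↔ _
      rw [h3]
  have hm3 : m < 3 := by
    by_contra hm3
    push Not at hm3
    obtain ⟨i1, i2, h01, h02, h12⟩ : ∃ i1 i2 : Fin m, (⟨0, hm⟩ : Fin m) ≠ i1 ∧ (⟨0, hm⟩ : Fin m) ≠ i2 ∧ i1 ≠ i2 :=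
      ⟨⟨1, by omega⟩, ⟨2, by omega⟩, by simp, by simp, by simp⟩
    have := hs i1
    have := hs i2
    obtain ⟨z, hz, hz2⟩ := exists_inv (hna i1)
    have hxz : Commute x z := hcomm _ _ h01 x hx z hz
    have hne1 : ∀ i : Fin m, x * z ∉ T i := by
      intro i hi
      by_cases h0 : i = ⟨0, hm⟩
      · have hz' : z ∈ T i := by
          have h5 : z = x⁻¹ * (x * z) := by group
          rw [h5]
          rw [h0] at hi ⊢
          exact (T _).mul_mem ((T _).inv_mem hx) hi
        have h2 : z = 1 := eq_one_of_cent (hna i1) hz fun k hk =>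
          (hcomm i _ (by rw [h0]; exact h01) z hz' k hk).symm
        rw [h2] at hz2
        simp at hz2
      · have h2 : x = 1 := eq_one_of_cent (hna ⟨0, hm⟩) hx fun k hk => by
          have h3 : Commute k (x * z) := (hcomm i _ h0 (x * z) hi k hk).symm
          have h4 : Commute k z⁻¹ := (hcomm _ _ h01 k hk z hz).inv_right
          have h5 := h3.mul_right h4
          rwa [mul_inv_cancel_right] at h5
        rw [h2] at hx2
        simp at hx2
    have hxz1 : x * z ≠ 1 := fun h => hne1 ⟨0, hm⟩ (by rw [h]; exact (T _).one_mem)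
    have hxz2 : orderOf (x * z) = 2 := by
      rw [orderOf_eq_iff (by norm_num)]
      refine ⟨?_, fun k hk hk0 => ?_⟩
      · rw [hxz.mul_pow, ← hx2, pow_orderOf_eq_one, hx2, ← hz2, pow_orderOf_eq_one, one_mul]
      · have : k = 1 := by omega
        rw [this, pow_one]
        exact hxz1
    refine pair hM h hx2 hxz2 (wt_two (hna i2) fun k hk => (hcomm _ _ h02 x hx k hk).symm)
      (wt_two (hna i2) fun k hk =>
        ((hcomm _ _ h02 x hx k hk).symm).mul_right ((hcomm _ _ h12 z hz k hk).symm)) ?_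
    intro hcj
    obtain ⟨g, hg⟩ := isConj_iff.1 hcj
    obtain ⟨j, hj⟩ := hperm g ⟨0, hm⟩
    apply hne1 j
    rw [← hj]
    exact ⟨x, hx, hg⟩
  have hm1 : m = 1 := by
    by_contra hm1
    have hm2 : m = 2 := by omega
    subst hm2
    apply hNI (normalizer (T 0 : Set G))
    rw [index_eq_two_iff]
    obtain ⟨a, ha⟩ := hconj 0 1
    refine ⟨a, fun b => ?_⟩
    have key : ∀ g : G, g ∈ normalizer (T 0 : Set G) ↔ (T 0).map (MulAut.conj g).toMonoidHom = T 0 := by
      intro g
      constructor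
      · intro hg
        apply eq_of_le_of_card_ge
        · rintro _ ⟨t, ht, rfl⟩
          exact (mem_normalizer_iff.1 hg t).1 ht
        · rw [card_map_of_injective (MulAut.conj g).injective]
      · intro hg
        rw [mem_normalizer_iff]
        intro t
        constructor
        · intro ht
          have h1 : (MulAut.conj g).toMonoidHom t ∈ (T 0).map (MulAut.conj g).toMonoidHom := ⟨t, ht, rfl⟩
          rw [hg] at h1
          exact h1
        · intro ht
          have h1 : g * t * g⁻¹ ∈ (T 0).map (MulAut.conj g).toMonoidHom := by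
            rw [hg]
            exact ht
          obtain ⟨t', ht', h2⟩ := h1
          have h3 : t' = t := (MulAut.conj g).injective h2
          rwa [← h3]
    have hmm : (T 0).map (MulAut.conj (b * a)).toMonoidHom = (T 1).map (MulAut.conj b).toMonoidHom := by
      rw [ha, Subgroup.map_map]
      congr 1
      ext t
      simp
    have hinj' : ∀ i j, (T i).map (MulAut.conj b).toMonoidHom = (T j).map (MulAut.conj b).toMonoidHom → i = j :=
      fun i j hij => hinj (map_injective (MulAut.conj b).injective hij)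
    rw [key, key, hmm]
    obtain ⟨j0, hj0⟩ := hperm b 0
    obtain ⟨j1, hj1⟩ := hperm b 1
    rw [hj0, hj1]
    have hne : j0 ≠ j1 := by
      intro h5
      rw [h5, ← hj1] at hj0
      exact absurd (hinj' 0 1 hj0) (by decide)
    have e0 : T j0 = T 0 ↔ j0 = 0 := hinj.eq_iff
    have e1 : T j1 = T 0 ↔ j1 = 0 := hinj.eq_iff
    rw [e0, e1]
    clear e0 e1 hj0 hj1
    revert j0 j1
    decide
  subst hm1
  have hT0 : T 0 = N := by
    rw [← hsup]
    exact (iSup_unique (f := T)).symm
  refine ⟨N, hNn, ?_, ?_, hC⟩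
  · rw [← hT0]
    exact hs 0
  · rw [← hT0]
    exact hna 0

end Cfsg.Agent.H16.K5
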